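import Groth.Agent.Lib.NRQ21.Basic

/-!
# A good quotient restricts to the preimage of an open subset
-/

set_option autoImplicit false
set_option linter.style.haveILetI false
set_option backward.isDefEq.respectTransparency.types false
universe u

open CategoryTheory CategoryTheory.Limits MonoidalCategory CartesianMonoidalCategory MonObj AlgebraicGeometry
open Topology

namespace Groth.Agent.NRQ21

theorem appLE_bijective {X Y : Scheme.{u}} (f : X ⟶ Y) [IsOpenImmersion f] {U : Y.Opens} {V : X.Opens}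
    (hU : U ≤ f.opensRange) (hV : V = f ⁻¹ᵁ U) : Function.Bijective (f.appLE U V hV.le) := by
  subst hV
  rw [f.appLE_eq_app]
  haveI := f.isIso_app U hU
  exact ConcreteCategory.bijective_of_isIso _

theorem appLE_appLE {X Y Z : Scheme.{u}} (f : X ⟶ Y) (g : Y ⟶ Z) {U : Z.Opens} {V : Y.Opens} {W : X.Opens}
    (e₁ : V ≤ g ⁻¹ᵁ U) (e₂ : W ≤ f ⁻¹ᵁ V) (e₃ : W ≤ (f ≫ g) ⁻¹ᵁ U) (s : Γ(Z, U)) :
    f.appLE V W e₂ (g.appLE U V e₁ s) = (f ≫ g).appLE U W e₃ s := by
  rw [← CommRingCat.comp_apply, Scheme.Hom.appLE_comp_appLE]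

theorem appLE_hom_congr {X Y : Scheme.{u}} {f g : X ⟶ Y} (h : f = g) {U : Y.Opens} {V : X.Opens}
    (e : V ≤ f ⁻¹ᵁ U) (e' : V ≤ g ⁻¹ᵁ U) (s : Γ(Y, U)) : f.appLE U V e s = g.appLE U V e' s := by
  subst h
  rfl

variable {k : Type u} [Field k] {G X Y : Over (Spec (CommRingCat.of k))} [GrpObj G]

theorem isInvSection_iff {V : Over (Spec (CommRingCat.of k))} (j : V ⟶ X) [IsOpenImmersion j.left]
    {a : AlgGrp.Action G X} {aV : AlgGrp.Action G V} (hj : aV.act ≫ j = (G ◁ j) ≫ a.act)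
    (W : X.left.Opens) (hW : W ≤ j.left.opensRange) (W' : V.left.Opens) (hW' : W' = j.left ⁻¹ᵁ W)
    (f : Γ(X.left, W)) :
    aV.act.left.appLE W' (aV.act.left ⁻¹ᵁ W' ⊓ (snd G V).left ⁻¹ᵁ W') inf_le_left (j.left.appLE W W' hW'.le f) =
        (snd G V).left.appLE W' (aV.act.left ⁻¹ᵁ W' ⊓ (snd G V).left ⁻¹ᵁ W') inf_le_right
          (j.left.appLE W W' hW'.le f) ↔
      a.act.left.appLE W (a.act.left ⁻¹ᵁ W ⊓ (snd G X).left ⁻¹ᵁ W) inf_le_left f =
        (snd G X).left.appLE W (a.act.left ⁻¹ᵁ W ⊓ (snd G X).left ⁻¹ᵁ W) inf_le_right f := by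
  subst hW'
  have hpb := GITQuot.isPullback_whiskerLeft j G
  haveI : IsOpenImmersion (G ◁ j).left :=
    MorphismProperty.of_isPullback (P := @IsOpenImmersion) hpb.flip inferInstance
  have e1 : aV.act.left ≫ j.left = (G ◁ j).left ≫ a.act.left := by
    rw [← Over.comp_left, ← Over.comp_left, hj]
  have e2 : (snd G V).left ≫ j.left = (G ◁ j).left ≫ (snd G X).left := by
    rw [← Over.comp_left, ← Over.comp_left, whiskerLeft_snd]
  have hD : aV.act.left ⁻¹ᵁ (j.left ⁻¹ᵁ W) ⊓ (snd G V).left ⁻¹ᵁ (j.left ⁻¹ᵁ W) =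
      (G ◁ j).left ⁻¹ᵁ (a.act.left ⁻¹ᵁ W ⊓ (snd G X).left ⁻¹ᵁ W) := by
    rw [← Scheme.Hom.comp_preimage, ← Scheme.Hom.comp_preimage, e1, e2]
    rfl
  have hrange : a.act.left ⁻¹ᵁ W ⊓ (snd G X).left ⁻¹ᵁ W ≤ (G ◁ j).left.opensRange := by
    rintro p ⟨-, hp⟩
    obtain ⟨v, hv⟩ := hW hp
    obtain ⟨z, hz1, -⟩ := Scheme.Pullback.exists_preimage_pullback (f := (snd G X).left) (g := j.left) p v hv.symm
    exact ⟨hpb.isoPullback.inv z, by rw [← Scheme.Hom.comp_apply, hpb.isoPullback_inv_fst]; exact hz1⟩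
  have hbij := appLE_bijective (G ◁ j).left hrange hD
  rw [← hbij.1.eq_iff]
  rw [appLE_appLE _ _ _ _ (by rw [Scheme.Hom.comp_preimage]; exact inf_le_left),
    appLE_appLE _ _ _ _ (by rw [Scheme.Hom.comp_preimage]; exact inf_le_right),
    appLE_appLE _ _ _ _ (by rw [← e1, Scheme.Hom.comp_preimage]; exact inf_le_left),
    appLE_appLE _ _ _ _ (by rw [← e2, Scheme.Hom.comp_preimage]; exact inf_le_right)]
  rw [appLE_hom_congr e1, appLE_hom_congr e2]

theorem isGoodQuot_restrict {a : AlgGrp.Action G X} {φ : X ⟶ Y} (h : NRQuot.IsGoodQuot a φ) (U : Y.left.Opens)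
    (aU : AlgGrp.Action G (Over.mk ((φ.left ⁻¹ᵁ U).ι ≫ X.hom)))
    (jU : Over.mk ((φ.left ⁻¹ᵁ U).ι ≫ X.hom) ⟶ X) (hjU : jU.left = (φ.left ⁻¹ᵁ U).ι)
    (haU : aU.act ≫ jU = (G ◁ jU) ≫ a.act)
    (φU : Over.mk ((φ.left ⁻¹ᵁ U).ι ≫ X.hom) ⟶ Over.mk (U.ι ≫ Y.hom))
    (hφU : φU.left ≫ U.ι = (φ.left ⁻¹ᵁ U).ι ≫ φ.left) :
    NRQuot.IsGoodQuot aU φU := by
  haveI : IsOpenImmersion jU.left := by rw [hjU]; infer_instance
  have hres : φU.left = φ.left ∣_ U := by
    rw [← cancel_mono U.ι]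
    exact hφU.trans (morphismRestrict_ι φ.left U).symm
  have hsq : φU.left ≫ U.ι = jU.left ≫ φ.left := by rw [hjU]; exact hφU
  have hrange : Set.range jU.left = φ.left.base ⁻¹' (U : Set Y.left) := by
    rw [hjU, Scheme.Opens.range_ι]
    rfl
  have hpt : ∀ v, (U.ι (φU.left v)) = φ.left (jU.left v) := fun v => by
    rw [← Scheme.Hom.comp_apply, ← Scheme.Hom.comp_apply, hsq]
  let C : Set (Over.mk ((φ.left ⁻¹ᵁ U).ι ≫ X.hom)).left → Set X.left := fun W => closure (jU.left.base '' W)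
  have hC : ∀ W, NRQuot.IsInvariantSet aU W → NRQuot.IsInvariantSet a (C W) := by
    intro W hW
    refine isInvariantSet_closure a fun p hp => ?_
    obtain ⟨v, hv, hv'⟩ := hp
    have hpb := GITQuot.isPullback_whiskerLeft jU G
    obtain ⟨z, hz1, hz2⟩ := Scheme.Pullback.exists_preimage_pullback (f := (snd G X).left) (g := jU.left) p v hv'.symm
    set q := hpb.isoPullback.inv z with hq'
    have hq1 : (G ◁ jU).left q = p := by
      rw [hq', ← Scheme.Hom.comp_apply, hpb.isoPullback_inv_fst]; exact hz1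
    have hq2 : (snd G _).left q = v := by
      rw [hq', ← Scheme.Hom.comp_apply, hpb.isoPullback_inv_snd]; exact hz2
    refine ⟨aU.act.left q, hW q (by show (snd G _).left q ∈ W; rw [hq2]; exact hv), ?_⟩
    have := congrArg (fun m : G ⊗ _ ⟶ X => m.left q) haU
    simp only [Over.comp_left, Scheme.Hom.comp_apply, hq1] at this
    exact this
  have hCpre : ∀ W, IsClosed W → jU.left.base ⁻¹' C W = W := fun W hW => by
    rw [jU.left.isOpenEmbedding.isOpenMap.preimage_closure_eq_closure_preimage jU.left.continuous,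
      Set.preimage_image_eq _ jU.left.isOpenEmbedding.injective, hW.closure_eq]
  refine ⟨?_, ?_, fun U' => ?_, fun W hW hWi => ?_, fun J W hW hWi => ?_⟩
  · rw [hres]
    haveI := h.affine
    exact MorphismProperty.of_isPullback (P := @IsAffineHom) (isPullback_morphismRestrict φ.left U).flip h.affine
  · refine Over.OverMorphism.ext ?_
    have e1 := congrArg CommaMorphism.left haU
    have e2 := congrArg CommaMorphism.left (whiskerLeft_snd G jU)
    simp only [Over.comp_left] at e1 e2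
    rw [← cancel_mono U.ι, Over.comp_left, Over.comp_left, Category.assoc, Category.assoc, hsq,
      reassoc_of% e1, h.inv.left, reassoc_of% e2]
  · set U'' : Y.left.Opens := U.ι ''ᵁ U' with hU''
    have hle : U'' ≤ U.ι.opensRange := by
      rintro y ⟨w, -, rfl⟩
      exact ⟨w, rfl⟩
    have hW' : φU.left ⁻¹ᵁ U' = jU.left ⁻¹ᵁ (φ.left ⁻¹ᵁ U'') := by
      rw [← Scheme.Hom.comp_preimage, ← hsq, Scheme.Hom.comp_preimage, hU'', Scheme.Hom.preimage_image_eq]
    have hWr : φ.left ⁻¹ᵁ U'' ≤ jU.left.opensRange := fun p hp => by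
      show p ∈ Set.range jU.left
      rw [hrange]
      obtain ⟨w, -, hw⟩ := hp
      show φ.left p ∈ U
      rw [← hw]
      exact w.2
    have hα := appLE_bijective U.ι hle (Scheme.Hom.preimage_image_eq U.ι U').symm
    have hβ := appLE_bijective jU.left hWr hW'
    have key : ∀ s, φU.left.app U' (U.ι.appLE U'' U' (Scheme.Hom.preimage_image_eq U.ι U').ge s) =
        jU.left.appLE _ _ hW'.le (φ.left.app U'' s) := by
      intro s
      rw [φU.left.app_eq_appLE, φ.left.app_eq_appLE,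
        appLE_appLE _ _ _ _ (by rw [Scheme.Hom.comp_preimage, hU'', Scheme.Hom.preimage_image_eq]),
        appLE_appLE _ _ _ _ (by rw [← hsq, Scheme.Hom.comp_preimage, hU'', Scheme.Hom.preimage_image_eq])]
      exact appLE_hom_congr hsq _ _ s
    obtain ⟨hinj, hrng⟩ := h.sections U''
    refine ⟨fun s t hst => ?_, Set.ext fun f => ⟨?_, fun hf => ?_⟩⟩
    · obtain ⟨s', rfl⟩ := hα.2 s
      obtain ⟨t', rfl⟩ := hα.2 t
      rw [key, key] at hst
      rw [hinj (hβ.1 hst)]
    · rintro ⟨s, rfl⟩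
      obtain ⟨s', rfl⟩ := hα.2 s
      show GIT.IsInvSection aU φU U' _
      rw [key]
      have h1 : GIT.IsInvSection a φ U'' (φ.left.app U'' s') := by
        show _ ∈ {f | GIT.IsInvSection a φ U'' f}
        rw [← hrng]
        exact ⟨s', rfl⟩
      exact (isInvSection_iff jU haU _ hWr _ hW' _).2 h1
    · obtain ⟨f', rfl⟩ := hβ.2 f
      have h1 : GIT.IsInvSection a φ U'' f' := (isInvSection_iff jU haU _ hWr _ hW' _).1 hf
      obtain ⟨s', hs'⟩ : f' ∈ Set.range (φ.left.app U'') := by rw [hrng]; exact h1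
      exact ⟨U.ι.appLE U'' U' (Scheme.Hom.preimage_image_eq U.ι U').ge s', by rw [key, hs']⟩
  · have e : φU.left.base '' W = U.ι.base ⁻¹' (φ.left.base '' C W) := by
      refine Set.ext fun w => ⟨?_, ?_⟩
      · rintro ⟨v, hv, rfl⟩
        exact ⟨jU.left v, subset_closure ⟨v, hv, rfl⟩, (hpt v).symm⟩
      · rintro ⟨p, hp, hpw⟩
        obtain ⟨v, rfl⟩ : p ∈ Set.range jU.left := by
          rw [hrange]
          show φ.left p ∈ U
          rw [show φ.left p = U.ι w from hpw]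
          exact w.2
        refine ⟨v, ?_, U.ι.isOpenEmbedding.injective ((hpt v).trans hpw)⟩
        rw [← hCpre W hW]
        exact hp
    rw [e]
    exact (h.closed _ isClosed_closure (hC W hWi)).preimage U.ι.continuous
  · refine Set.Subset.antisymm (Set.image_iInter_subset _ _) fun w hw => ?_
    have hmem : U.ι w ∈ ⋂ i, φ.left.base '' (C (W i)) := Set.mem_iInter.2 fun i => by
      obtain ⟨v, hv, hvw⟩ := Set.mem_iInter.1 hw i
      refine ⟨jU.left v, subset_closure ⟨v, hv, rfl⟩, ?_⟩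
      show φ.left (jU.left v) = U.ι w
      rw [← hpt, show φU.left v = w from hvw]
    rw [← h.inter J _ (fun i => isClosed_closure) (fun i => hC _ (hWi i))] at hmem
    obtain ⟨p, hp, hpw⟩ := hmem
    obtain ⟨v, rfl⟩ : p ∈ Set.range jU.left := by
      rw [hrange]
      show φ.left p ∈ U
      rw [show φ.left p = U.ι w from hpw]
      exact w.2
    refine ⟨v, Set.mem_iInter.2 fun i => ?_, U.ι.isOpenEmbedding.injective ((hpt v).trans hpw)⟩
    rw [← hCpre _ (hW i)]
    exact Set.mem_iInter.1 hp i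

end Groth.Agent.NRQ21
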