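import Groth.Prelude.Def_W4c6nonredquotmfGoodQuot
import Groth.Agent.Lib.GITQuot.Orbit
import Groth.Agent.Lib.GrpdB.Section
import Groth.Agent.Lib.PtsDetect19.Basic
import Groth.Agent.Lib.OrbitTop19.Base
import Groth.Agent.Lib.OrbitTop19.Descend
import Mathlib.AlgebraicGeometry.Morphisms.UniversallyOpen
import Mathlib.Topology.NoetherianSpace

/-!
# Invariant sets, orbit closures and good quotients
-/

set_option autoImplicit false
set_option linter.style.haveILetI false
set_option backward.isDefEq.respectTransparency.types false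
universe u

open CategoryTheory CategoryTheory.Limits MonoidalCategory CartesianMonoidalCategory MonObj AlgebraicGeometry
open Topology

namespace Groth.Agent.NRQ21

variable {k : Type u} [Field k] {G X Y : Over (Spec (CommRingCat.of k))} [GrpObj G]

local notation "pt" => 𝟙_ (Over (Spec (CommRingCat.of k)))

/-- The projection is open. -/
theorem isOpenMap_snd (G X : Over (Spec (CommRingCat.of k))) : IsOpenMap (snd G X).left.base := by
  haveI : UniversallyOpen G.hom := inferInstance
  haveI : UniversallyOpen (snd G X).left := by rw [Over.snd_left]; infer_instance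
  exact (snd G X).left.isOpenMap

/-- The closure of an invariant set is invariant. -/
theorem isInvariantSet_closure (a : AlgGrp.Action G X) {W : Set X.left} (hW : NRQuot.IsInvariantSet a W) :
    NRQuot.IsInvariantSet a (closure W) := by
  intro p hp
  have h1 : p ∈ closure ((snd G X).left.base ⁻¹' W) := by
    rw [← (isOpenMap_snd G X).preimage_closure_eq_closure_preimage (snd G X).left.continuous]
    exact hp
  exact map_mem_closure a.act.left.continuous h1 hW

/-- The orbit of a point, as a set. -/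
def orb (a : AlgGrp.Action G X) (x : pt ⟶ X) : Set X.left := Set.range (a.orbitMap x).left.base

/-- Orbits are invariant. -/
theorem isInvariantSet_orb (a : AlgGrp.Action G X) (x : pt ⟶ X) : NRQuot.IsInvariantSet a (orb a x) := by
  intro p hp
  obtain ⟨g, hg⟩ := hp
  have e := GITQuot.isPullback_whiskerLeft (a.orbitMap x) G
  obtain ⟨z, hz1, -⟩ := Scheme.Pullback.exists_preimage_pullback (f := (snd G X).left) (g := (a.orbitMap x).left) p g hg.symm
  have hq : (G ◁ a.orbitMap x).left (e.isoPullback.inv z) = p := by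
    rw [← Scheme.Hom.comp_apply, e.isoPullback_inv_fst]
    exact hz1
  refine ⟨μ[G].left (e.isoPullback.inv z), ?_⟩
  have h2 := congrArg (fun m : G ⊗ G ⟶ X => m.left (e.isoPullback.inv z)) (OrbitTop19.orbitMap_equivariant a x)
  simp only [Over.comp_left, Scheme.Hom.comp_apply, hq] at h2
  exact h2.symm

/-- The inverse action shows that the complement of an invariant set is invariant. -/
theorem isInvariantSet_compl (a : AlgGrp.Action G X) {W : Set X.left} (hW : NRQuot.IsInvariantSet a W) :
    NRQuot.IsInvariantSet a Wᶜ := by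
  intro p hp hap
  let τ : G ⊗ X ⟶ G ⊗ X := lift ((fst G X)⁻¹) a.act
  have h1 : τ ≫ a.act = snd G X := by
    have e : a.act = lift (fst G X) (snd G X) ≫ a.act := by rw [lift_fst_snd, Category.id_comp]
    show lift ((fst G X)⁻¹) a.act ≫ a.act = _
    conv_lhs => arg 1; arg 2; rw [e]
    rw [← AlgGrpBasic19.act_mul, inv_mul_cancel, AlgGrpBasic19.act_one]
  have h2 : τ ≫ snd G X = a.act := lift_snd _ _
  have e1 := congrArg (fun m : G ⊗ X ⟶ X => m.left p) h1
  have e2 := congrArg (fun m : G ⊗ X ⟶ X => m.left p) h2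
  simp only [Over.comp_left, Scheme.Hom.comp_apply] at e1 e2
  refine hp ?_
  rw [← e1]
  exact hW _ (by rw [e2]; exact hap)

/-- The point of a rational point. -/
noncomputable def img (x : pt ⟶ X) : X.left := x.left (IsLocalRing.closedPoint k)

theorem range_eq (x : pt ⟶ X) : Set.range x.left.base = {img x} := by
  refine Set.ext fun y => ⟨fun ⟨w, hw⟩ => ?_, fun hy => ⟨IsLocalRing.closedPoint k, (Set.mem_singleton_iff.1 hy).symm⟩⟩
  rw [Set.mem_singleton_iff, ← hw]
  exact congrArg _ (Subsingleton.elim (α := Spec (CommRingCat.of k)) w _)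

theorem img_comp (x : pt ⟶ X) (f : X ⟶ Y) : img (x ≫ f) = f.left (img x) := by
  rw [img, img, Over.comp_left, Scheme.Hom.comp_apply]

theorem isClosedImmersion_pt (x : pt ⟶ X) : IsClosedImmersion x.left :=
  GrpdB.isClosedImmersion_of_section X.hom x.left (by simp)

theorem isClosed_img (x : pt ⟶ X) : IsClosed ({img x} : Set X.left) := by
  haveI := isClosedImmersion_pt x
  rw [← range_eq]
  exact x.left.isClosedEmbedding.isClosed_range

/-- Rational points are determined by their images. -/
theorem ext_img {x y : pt ⟶ X} (h : img x = img y) : x = y := by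
  haveI := isClosedImmersion_pt y
  haveI : AlgebraicGeometry.IsReduced (𝟙_ (Over (Spec (CommRingCat.of k)))).left := inferInstanceAs (AlgebraicGeometry.IsReduced (Spec (CommRingCat.of k)))
  obtain ⟨g, hg⟩ := RedSepLib.exists_lift_of_range_subset x.left y.left
    (by rw [range_eq, range_eq, h])
  have h1 : g = 𝟙 _ := by
    have := congrArg (· ≫ X.hom) hg
    simpa using this
  refine Over.OverMorphism.ext ?_
  rw [← hg, h1, Category.id_comp]

/-- Closed points of a scheme locally of finite type over an algebraically closed field are rational. -/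
theorem exists_pt [IsAlgClosed k] [LocallyOfFiniteType X.hom] {y : X.left} (hy : IsClosed ({y} : Set X.left)) :
    ∃ x : pt ⟶ X, img x = y := by
  obtain ⟨w, hw⟩ := PtsDetect19.exists_point (k := k) k y hy
  refine ⟨Over.homMk w.left ?_, hw _⟩
  rw [Over.w w]
  exact Spec.map_id _

theorem img_mem_orb (a : AlgGrp.Action G X) (x : pt ⟶ X) : img x ∈ orb a x := by
  refine ⟨img (1 : pt ⟶ G), ?_⟩
  show (a.orbitMap x).left (img _) = _
  rw [← img_comp, AlgGrp.Action.comp_orbitMap, AlgGrpBasic19.act_one, toUnit_unique (toUnit _) (𝟙 _), Category.id_comp]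

theorem orb_subset (a : AlgGrp.Action G X) {W : Set X.left} (hW : NRQuot.IsInvariantSet a W) {x : pt ⟶ X}
    (hx : img x ∈ W) : orb a x ⊆ W := by
  rintro _ ⟨g, rfl⟩
  show (a.orbitMap x).left g ∈ W
  rw [AlgGrp.Action.orbitMap, Over.comp_left, Scheme.Hom.comp_apply]
  refine hW _ ?_
  show (snd G X).left _ ∈ W
  rw [← Scheme.Hom.comp_apply, ← Over.comp_left, lift_snd, Over.comp_left, Scheme.Hom.comp_apply]
  convert hx using 1
  exact congrArg _ (Subsingleton.elim (α := Spec (CommRingCat.of k)) _ _)

/-- The map of a good quotient is constant on orbit closures. -/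
theorem image_closure_orb {a : AlgGrp.Action G X} {φ : X ⟶ Y} (h : GIT.IsInvariant a φ) (x : pt ⟶ X) :
    closure (orb a x) ⊆ φ.left.base ⁻¹' {φ.left (img x)} := by
  have hc : IsClosed ({φ.left (img x)} : Set Y.left) := by rw [← img_comp]; exact isClosed_img _
  refine closure_minimal (orb_subset a (fun p hp => ?_) rfl) (hc.preimage φ.left.continuous)
  have e := congrArg (fun f => f.base p) h.left
  simp only [Scheme.Hom.comp_base, TopCat.comp_app] at e
  rw [Set.mem_preimage, e]
  exact hp

theorem closure_orb_inter_nonempty_iff {a : AlgGrp.Action G X} {φ : X ⟶ Y} (h : NRQuot.IsGoodQuot a φ)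
    (x₁ x₂ : pt ⟶ X) : (closure (orb a x₁) ∩ closure (orb a x₂)).Nonempty ↔ x₁ ≫ φ = x₂ ≫ φ := by
  constructor
  · rintro ⟨p, h1, h2⟩
    refine ext_img ?_
    have e1 := image_closure_orb h.inv x₁ h1
    have e2 := image_closure_orb h.inv x₂ h2
    rw [img_comp, img_comp]
    exact (Set.mem_singleton_iff.1 e1).symm.trans (Set.mem_singleton_iff.1 e2)
  · intro he
    let W : ULift.{u} Bool → Set X.left := fun b => bif b.down then closure (orb a x₁) else closure (orb a x₂)
    have hi := h.inter (ULift.{u} Bool) W (fun b => by rcases b with ⟨_ | _⟩ <;> exact isClosed_closure)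
      (fun b => by rcases b with ⟨_ | _⟩ <;> exact isInvariantSet_closure a (isInvariantSet_orb a _))
    have hmem : φ.left (img x₁) ∈ ⋂ b, φ.left.base '' (W b) := Set.mem_iInter.2 fun b => by
      rcases b with ⟨_ | _⟩
      · exact ⟨img x₂, subset_closure (img_mem_orb a x₂), by rw [← img_comp, ← img_comp, he]⟩
      · exact ⟨img x₁, subset_closure (img_mem_orb a x₁), rfl⟩
    rw [← hi] at hmem
    obtain ⟨p, hp, -⟩ := hmem
    exact ⟨p, Set.mem_iInter.1 hp ⟨true⟩, Set.mem_iInter.1 hp ⟨false⟩⟩

variable [IsAlgClosed k] [LocallyOfFiniteType G.hom] [LocallyOfFiniteType X.hom]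

/-- A closed point of an orbit is a translate. -/
theorem exists_act_eq (a : AlgGrp.Action G X) (x : pt ⟶ X) {z : pt ⟶ X} (hz : img z ∈ orb a x) :
    ∃ g : pt ⟶ G, lift g x ≫ a.act = z := by
  haveI : JacobsonSpace G.left := LocallyOfFiniteType.jacobsonSpace (Y := Spec _) G.hom
  have hne : ((a.orbitMap x).left.base ⁻¹' {img z}).Nonempty := hz
  obtain ⟨g₀, hg₀, hgc⟩ := nonempty_inter_closedPoints hne
    ((isClosed_img z).preimage (a.orbitMap x).left.continuous).isLocallyClosed
  obtain ⟨g, rfl⟩ := exists_pt (show IsClosed ({g₀} : Set G.left) from hgc)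
  refine ⟨g, ext_img ?_⟩
  have : g ≫ a.orbitMap x = lift g x ≫ a.act := by
    rw [AlgGrp.Action.comp_orbitMap, toUnit_unique (toUnit _) (𝟙 _), Category.id_comp]
  rw [← this, img_comp]
  exact hg₀

theorem exists_act_eq_of_closed {a : AlgGrp.Action G X} {φ : X ⟶ Y} (h : NRQuot.IsGoodQuot a φ)
    {x₁ x₂ : pt ⟶ X} (hc₁ : IsClosed (orb a x₁)) (hc₂ : IsClosed (orb a x₂)) (hφ : x₁ ≫ φ = x₂ ≫ φ) :
    ∃ g : pt ⟶ G, lift g x₁ ≫ a.act = x₂ := by
  haveI : JacobsonSpace X.left := LocallyOfFiniteType.jacobsonSpace (Y := Spec _) X.hom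
  have hne := (closure_orb_inter_nonempty_iff h x₁ x₂).2 hφ
  rw [hc₁.closure_eq, hc₂.closure_eq] at hne
  obtain ⟨z₀, hz₀, hzc⟩ := nonempty_inter_closedPoints hne (hc₁.inter hc₂).isLocallyClosed
  obtain ⟨z, rfl⟩ := exists_pt (show IsClosed ({z₀} : Set X.left) from hzc)
  obtain ⟨g₁, e₁⟩ := exists_act_eq a x₁ hz₀.1
  obtain ⟨g₂, e₂⟩ := exists_act_eq a x₂ hz₀.2
  refine ⟨g₂⁻¹ * g₁, ?_⟩
  rw [AlgGrpBasic19.act_mul, e₁, ← e₂, ← AlgGrpBasic19.act_mul, inv_mul_cancel, AlgGrpBasic19.act_one]

/-- Every fibre of a good quotient over a rational point contains exactly one closed orbit. -/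
theorem exists_unique_closed_orb [QuasiCompact G.hom] {a : AlgGrp.Action G X} {φ : X ⟶ Y}
    (h : NRQuot.IsGoodQuot a φ) (y : pt ⟶ Y) :
    ∃ x : pt ⟶ X, x ≫ φ = y ∧ IsClosed (orb a x) ∧
      ∀ x' : pt ⟶ X, x' ≫ φ = y → IsClosed (orb a x') → ∃ g : pt ⟶ G, lift g x ≫ a.act = x' := by
  classical
  haveI : JacobsonSpace X.left := LocallyOfFiniteType.jacobsonSpace (Y := Spec _) X.hom
  haveI := h.affine
  obtain ⟨U, hU, hyU, -⟩ := exists_isAffineOpen_mem_and_subset (show img y ∈ (⊤ : Y.left.Opens) from trivial)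
  set V := φ.left ⁻¹ᵁ U with hV
  have hVa : IsAffineOpen V := hU.preimage φ.left
  haveI : IsAffine V.toScheme := hVa
  haveI : IsLocallyNoetherian V.toScheme := LocallyOfFiniteType.isLocallyNoetherian (V.ι ≫ X.hom)
  haveI : IsNoetherian V.toScheme := {}
  let cl : (pt ⟶ X) → TopologicalSpace.Closeds V.toScheme := fun x =>
    ⟨V.ι.base ⁻¹' closure (orb a x), isClosed_closure.preimage V.ι.continuous⟩
  have hne : {x : pt ⟶ X | x ≫ φ = y}.Nonempty := by
    have h' := h.inter PEmpty (fun i => i.elim) (fun i => i.elim) (fun i => i.elim)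
    rw [Set.iInter_of_empty, Set.iInter_of_empty, Set.image_univ] at h'
    have hs : (φ.left.base ⁻¹' {img y}).Nonempty := by
      obtain ⟨p, hp⟩ := Set.range_eq_univ.mp h' (img y)
      exact ⟨p, hp⟩
    obtain ⟨p, hp, hpc⟩ := nonempty_inter_closedPoints hs
      ((isClosed_img y).preimage φ.left.continuous).isLocallyClosed
    obtain ⟨x, rfl⟩ := exists_pt (show IsClosed ({p} : Set X.left) from hpc)
    exact ⟨x, ext_img (by rw [img_comp]; exact hp)⟩
  obtain ⟨x, hx, hmin⟩ := WellFounded.has_min (InvImage.wf cl wellFounded_lt) _ hne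
  have hxy : x ≫ φ = y := hx
  have hclosed : IsClosed (orb a x) := by
    by_contra hc
    have hlc : IsLocallyClosed (orb a x) := OrbitTop19.isLocallyClosed_range_orbitMap a x
    have hcl : IsClosed (closure (orb a x) \ orb a x) := by
      rw [← isOpen_compl_iff]
      exact hlc.isOpen_coborder
    have hbd : (closure (orb a x) \ orb a x).Nonempty := by
      by_contra hh
      exact hc (isClosed_of_closure_subset (Set.sdiff_eq_empty.1 (Set.not_nonempty_iff_eq_empty.1 hh)))
    obtain ⟨z₀, hz₀, hzc⟩ := nonempty_inter_closedPoints hbd hcl.isLocallyClosed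
    obtain ⟨z, rfl⟩ := exists_pt (show IsClosed ({z₀} : Set X.left) from hzc)
    have hzy : z ≫ φ = y := by
      rw [← hxy]
      refine ext_img ?_
      rw [img_comp, img_comp]
      exact image_closure_orb h.inv x hz₀.1
    have hinv : NRQuot.IsInvariantSet a (closure (orb a x) \ orb a x) := fun p hp =>
      ⟨isInvariantSet_closure a (isInvariantSet_orb a x) p hp.1,
        isInvariantSet_compl a (isInvariantSet_orb a x) p hp.2⟩
    have hsub : closure (orb a z) ⊆ closure (orb a x) \ orb a x := closure_minimal (orb_subset a hinv hz₀) hcl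
    refine hmin z hzy ?_
    have hxV : img x ∈ V := by
      show φ.left (img x) ∈ U
      rw [← img_comp, hxy]
      exact hyU
    refine lt_of_le_not_ge (fun p hp => (hsub hp).1) fun hle => ?_
    obtain ⟨w, hw⟩ : img x ∈ Set.range V.ι.base := by
      rw [Scheme.Opens.range_ι]
      exact hxV
    have hw1 : w ∈ V.ι.base ⁻¹' closure (orb a x) := by
      show V.ι.base w ∈ closure (orb a x)
      rw [hw]
      exact subset_closure (img_mem_orb a x)
    have hw2 : V.ι.base w ∈ closure (orb a z) := hle hw1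
    rw [hw] at hw2
    exact (hsub hw2).2 (img_mem_orb a x)
  exact ⟨x, hxy, hclosed, fun x' hx' hc' => exists_act_eq_of_closed h hclosed hc' (hxy.trans hx'.symm)⟩

end Groth.Agent.NRQ21
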